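-- Twenty-one Sylow 5-subgroups in a simple group: the Sylow subgroups have order 5.
--
-- * `card_sylow_five_of_simple`: lines of Sylow subgroups through a common intersection
import Cfsg.Agent.Lib.SmallOrders.Intersect

set_option autoImplicit false

namespace Cfsg.Agent.SmallOrders.TwentyOne

open Subgroup MulAction

variable {G : Type*} [Group G] [Finite G] [IsSimpleGroup G]

/-- With 21 Sylow 5-subgroups in a simple group, two of them meet in index 5. -/
theorem card_inf_mul_five [Fact (Nat.Prime 5)] (h : Nat.card (Sylow 5 G) = 21) {P Q : Sylow 5 G}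
    (hPQ : P ≠ Q) :
    Nat.card ↥((P : Subgroup G) ⊓ (Q : Subgroup G)) * 5 = Nat.card (P : Subgroup G) := by
  have h1 : Nat.card (orbit (P : Subgroup G) Q) =
      ((Q : Subgroup G).subgroupOf (P : Subgroup G)).index := by
    rw [← stabilizer_sylow, index_stabilizer, ← Nat.card_coe_set_eq]
  obtain ⟨i, hi⟩ := P.isPGroup'.index ((Q : Subgroup G).subgroupOf (P : Subgroup G))
  have hP : P ∉ orbit (P : Subgroup G) Q := by
    rintro ⟨x, hx⟩
    apply hPQ
    have h2 : (x : G) • P = P := Sylow.smul_eq_iff_mem_normalizer.mpr (le_normalizer x.2)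
    exact smul_left_cancel (x : G) (h2.trans hx.symm)
  have h3 : Nat.card (orbit (P : Subgroup G) Q) ≤ 20 := by
    have h4 : orbit (P : Subgroup G) Q ⊆ {P}ᶜ := fun R hR hRP => hP (hRP ▸ hR)
    have h5 := Nat.card_mono (Set.toFinite _) h4
    rw [Nat.card_coe_set_eq ({P}ᶜ), Set.ncard_compl, Set.ncard_singleton, h] at h5
    exact h5
  have hne : ((Q : Subgroup G).subgroupOf (P : Subgroup G)).index ≠ 1 := fun h1 =>
    hPQ (Sylow.ext (P.is_maximal' Q.isPGroup' (subgroupOf_eq_top.mp (index_eq_one.mp h1))).symm)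
  rw [h1, hi] at h3
  rw [hi] at hne
  have hi1 : i = 1 := by
    rcases i with _ | _ | i
    · simp at hne
    · rfl
    · have := Nat.pow_le_pow_right (show 0 < 5 by norm_num) (show 2 ≤ i + 1 + 1 by omega)
      omega
  have h6 := ((Q : Subgroup G).subgroupOf (P : Subgroup G)).card_mul_index
  rw [hi, hi1, pow_one, ← inf_subgroupOf_left,
    Nat.card_congr (subgroupOfEquivOfLe (inf_le_left : (P : Subgroup G) ⊓ Q ≤ P)).toEquiv] at h6
  exact h6

/-- With 21 Sylow 5-subgroups in a simple group, they have order 5. -/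
theorem card_sylow_five_of_simple [Fact (Nat.Prime 5)] (hG : ¬ IsMulCommutative G)
    (h : Nat.card (Sylow 5 G) = 21) (P : Sylow 5 G) : Nat.card (P : Subgroup G) = 5 := by
  classical
  have : Fintype (Sylow 5 G) := Fintype.ofFinite _
  have hcardP : ∀ Q : Sylow 5 G, Nat.card (Q : Subgroup G) = Nat.card (P : Subgroup G) :=
    fun Q => Nat.card_congr (Q.equiv P).toEquiv
  by_contra hne
  -- every intersection is non-trivial
  have hinf : ∀ A B : Sylow 5 G, A ≠ B →
      Nat.card ↥((A : Subgroup G) ⊓ (B : Subgroup G)) * 5 = Nat.card (P : Subgroup G) :=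
    fun A B hAB => (card_inf_mul_five h hAB).trans (hcardP A)
  let L : Subgroup G → Finset (Sylow 5 G) := fun D => {T | D ≤ (T : Subgroup G)}
  have hL : ∀ (D : Subgroup G) (T : Sylow 5 G), T ∈ L D ↔ D ≤ (T : Subgroup G) := fun D T => by
    simp [L]
  have hline : ∀ (D : Subgroup G) (A B : Sylow 5 G), Nat.card D * 5 = Nat.card (P : Subgroup G) →
      A ∈ L D → B ∈ L D → A ≠ B → (A : Subgroup G) ⊓ (B : Subgroup G) = D := fun D A B hD hA hB hAB =>
    (eq_of_le_of_card_ge (le_inf ((hL D A).mp hA) ((hL D B).mp hB))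
      (by have := hinf A B hAB; omega)).symm
  have hsix : ∀ A B : Sylow 5 G, A ≠ B → 6 ≤ (L ((A : Subgroup G) ⊓ B)).card := by
    intro A B hAB
    set D := (A : Subgroup G) ⊓ B with hD
    have hlt : D < A := inf_lt_left hAB
    have hAN : (A : Subgroup G) ≤ normalizer (D : Set G) := by
      have h2 := lt_normalizer_inf A.isPGroup' hlt
      have h3 : Nat.card D * 5 = Nat.card (A : Subgroup G) := (hinf A B hAB).trans (hcardP A).symm
      set E := normalizer (D : Set G) ⊓ (A : Subgroup G) with hE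
      have h4 := card_dvd_of_le h2.le
      have h5 : Nat.card E ∣ Nat.card D * 5 := h3 ▸ card_dvd_of_le (inf_le_right : E ≤ _)
      obtain ⟨t, ht⟩ := h4
      rw [ht] at h5
      have h6 : t ∣ 5 := Nat.dvd_of_mul_dvd_mul_left Nat.card_pos h5
      rcases (Fact.out : Nat.Prime 5).eq_one_or_self_of_dvd t h6 with h7 | h7
      · exact absurd (eq_of_le_of_card_ge h2.le (by rw [ht, h7, mul_one])) h2.ne
      · have h8 : E = A := eq_of_le_of_card_ge inf_le_right (by rw [ht, h7, h3])
        rw [← h8]
        exact inf_le_left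
    let X := {T : Sylow 5 G // D ≤ (T : Subgroup G)}
    have hsmul : ∀ (a : (A : Subgroup G)) (T : Sylow 5 G), D ≤ (T : Subgroup G) →
        D ≤ ((a • T : Sylow 5 G) : Subgroup G) := by
      intro a T hT x hx
      rw [Subgroup.smul_def, Sylow.coe_subgroup_smul, Subgroup.mem_pointwise_smul_iff_inv_smul_mem,
        ← map_inv, MulAut.smul_def, MulAut.conj_apply, inv_inv]
      exact hT ((mem_normalizer_iff''.mp (hAN a.2) x).mp hx)
    letI : MulAction (A : Subgroup G) X :=
      { smul := fun a T => ⟨a • T.1, hsmul a T.1 T.2⟩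
        one_smul := fun T => Subtype.ext (one_smul _ T.1)
        mul_smul := fun a b T => Subtype.ext (mul_smul a b T.1) }
    have h4 := A.isPGroup'.card_modEq_card_fixedPoints X
    have h5 : Nat.card (fixedPoints (A : Subgroup G) X) = 1 := by
      rw [Nat.card_eq_one_iff_unique]
      refine ⟨⟨fun S T => ?_⟩, ⟨⟨A, inf_le_left⟩, fun a => Subtype.ext
        (Sylow.smul_eq_iff_mem_normalizer.mpr (le_normalizer a.2) : (a : G) • A = A)⟩⟩
      have hfix : ∀ S : fixedPoints (A : Subgroup G) X, S.1.1 = A := fun S => by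
        apply Sylow.ext
        have h6 : (A : Subgroup G) ≤ normalizer (S.1.1 : Set G) := fun a ha =>
          Sylow.smul_eq_iff_mem_normalizer.mp (congrArg Subtype.val (S.2 ⟨a, ha⟩) : _)
        have h7 := A.isPGroup'.inf_normalizer_sylow S.1.1
        rw [inf_eq_left.mpr h6] at h7
        exact A.is_maximal' S.1.1.isPGroup' (inf_eq_left.mp h7.symm)
      exact Subtype.ext (Subtype.ext ((hfix S).trans (hfix T).symm))
    have h6 : Nat.card X = (L D).card := by
      rw [Nat.card_eq_fintype_card, Fintype.card_subtype]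
    have h7 : 2 ≤ (L D).card := Finset.one_lt_card.mpr
      ⟨A, (hL D A).mpr inf_le_left, B, (hL D B).mpr inf_le_right, hAB⟩
    rw [h5, h6] at h4
    unfold Nat.ModEq at h4
    omega
  -- a point off a line
  obtain ⟨Q, hQ⟩ : ∃ Q : Sylow 5 G, P ≠ Q := by
    by_contra! hall
    have : Subsingleton (Sylow 5 G) := ⟨fun A B => (hall A).symm.trans (hall B)⟩
    have := Finite.card_le_one_iff_subsingleton.mpr this
    omega
  set D := (P : Subgroup G) ⊓ Q with hD
  obtain ⟨R, hR⟩ : ∃ R : Sylow 5 G, R ∉ L D := by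
    by_contra! hall
    have hcore : D ≤ (P : Subgroup G).normalCore := by
      intro x hx g
      have h1 := (hL D (g⁻¹ • P)).mp (hall _) hx
      rw [Sylow.coe_subgroup_smul, Subgroup.mem_pointwise_smul_iff_inv_smul_mem, ← map_inv,
        MulAut.smul_def, MulAut.conj_apply, inv_inv] at h1
      exact h1
    rw [normalCore_eq_bot (fun ht => not_isPGroup hG 5 (P.isPGroup'.of_equiv
      ((MulEquiv.subgroupCongr ht).trans topEquiv)))] at hcore
    have h2 := hinf P Q hQ
    rw [← hD, le_bot_iff.mp hcore, card_bot, one_mul] at h2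
    exact hne h2.symm
  let F : Sylow 5 G → Finset (Sylow 5 G) := fun S => (L ((R : Subgroup G) ⊓ S)).erase R
  have hne' : ∀ S ∈ L D, R ≠ S := fun S hS he => hR (he ▸ hS)
  have hdisj : Set.PairwiseDisjoint (L D : Set (Sylow 5 G)) F := by
    intro S hS S' hS' hSS'
    rw [Function.onFun, Finset.disjoint_left]
    intro T hT hT'
    obtain ⟨hTR, hT⟩ := Finset.mem_erase.mp hT
    obtain ⟨-, hT'⟩ := Finset.mem_erase.mp hT'
    have e1 := hline _ R T (hinf R S (hne' S hS)) ((hL _ R).mpr inf_le_left) hT hTR.symm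
    have e2 := hline _ R T (hinf R S' (hne' S' hS')) ((hL _ R).mpr inf_le_left) hT' hTR.symm
    have hS2 : S' ∈ L ((R : Subgroup G) ⊓ S) := by
      rw [← e1, e2]
      exact (hL _ S').mpr inf_le_right
    have e3 := hline _ S S' (hinf R S (hne' S hS)) ((hL _ S).mpr inf_le_right) hS2 hSS'
    have e4 := hline D S S' (hinf P Q hQ) hS hS' hSS'
    apply hR
    rw [hL, ← e4, e3]
    exact inf_le_left
  have h30 : 6 * 5 ≤ ((L D).biUnion F).card := by
    rw [Finset.card_biUnion hdisj]
    calc 6 * 5 ≤ (L D).card * 5 := Nat.mul_le_mul_right 5 (hsix P Q hQ)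
      _ = ∑ _S ∈ L D, 5 := by simp
      _ ≤ _ := Finset.sum_le_sum fun S hS => by
        rw [Finset.card_erase_of_mem ((hL _ R).mpr inf_le_left)]
        have := hsix R S (hne' S hS)
        omega
  have h21 := Finset.card_le_univ ((L D).biUnion F)
  rw [← Nat.card_eq_fintype_card, h] at h21
  omega

end Cfsg.Agent.SmallOrders.TwentyOne
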