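-- Twenty-one Sylow subgroups of order 5 in a simple group: impossible.
--
-- * `exists_shape`: `|G| = 105 c j`, and the action of `N(P)` on the four orbits of `P`
-- * `sylow_two_shape`: for `4 ∣ c` a Sylow 2-subgroup is abelian, the squares form `{1, z}`
-- * `false_of_prime_five`: no simple group has 21 Sylow subgroups of order 5
import Cfsg.Agent.Lib.SmallOrders.Check2
import Cfsg.Agent.Lib.SylowCount.Basic
import Cfsg.Agent.Lib.Transfer.AbelianHall

set_option autoImplicit false

namespace Cfsg.Agent.SmallOrders.TwentyOne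

open Subgroup
open scoped commutatorElement

theorem alt_four_pow_four (σ : Equiv.Perm (Fin 4)) (hσ : σ ∈ alternatingGroup (Fin 4))
    (h : σ ^ 4 = 1) : σ ^ 2 = 1 := by
  revert hσ h σ
  simp only [Equiv.Perm.mem_alternatingGroup]
  decide +kernel

theorem alt_four_center (σ : alternatingGroup (Fin 4))
    (h : ∀ τ : alternatingGroup (Fin 4), τ * σ = σ * τ) : σ = 1 := by
  revert h σ
  decide +kernel

theorem card_ne_six_alt_four (H : Subgroup (alternatingGroup (Fin 4))) : Nat.card H ≠ 6 := by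
  classical
  intro h
  have hidx : H.index = 2 := by
    have := H.card_mul_index
    rw [h, card_alternatingGroup_fin, show altCard 4 = 12 from by decide] at this
    omega
  have hsq := fun a => H.sq_mem_of_index_two hidx a
  have h9 : (Finset.univ.image fun a : alternatingGroup (Fin 4) => a ^ 2).card = 9 := by
    decide +kernel
  have hle : (Finset.univ.image fun a : alternatingGroup (Fin 4) => a ^ 2).card ≤ 6 := by
    rw [← h, ← Nat.card_eq_finsetCard]
    exact Nat.card_le_card_of_injective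
      (fun a => (⟨a.1, by obtain ⟨b, -, hb⟩ := Finset.mem_image.mp a.2; exact hb ▸ hsq b⟩ : H))
      fun a b hab => Subtype.ext (congrArg (Subtype.val : H → _) hab)
  omega

theorem card_sylow_inf_mul {H : Type*} [Group H] [Finite H] {p : ℕ} [Fact p.Prime] (T : Sylow p H)
    (K : Subgroup H) [K.Normal] :
    ∃ a, Nat.card K = Nat.card ↥((T : Subgroup H) ⊓ K) * a ∧ ¬ p ∣ a := by
  refine ⟨(T : Subgroup H).relIndex K, ?_, fun h => T.not_dvd_index (h.trans ?_)⟩
  · rw [← inf_relIndex_right, ← Nat.card_congr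
      (subgroupOfEquivOfLe (inf_le_right : (T : Subgroup H) ⊓ K ≤ K)).toEquiv]
    exact (card_mul_index _).symm
  · rw [← Cfsg.Agent.SylowCount.relIndex_eq_of_sup K (T : Subgroup H)]
    exact ⟨_, (relIndex_mul_index le_sup_left).symm⟩

variable {G : Type*} [Group G] [Finite G] [IsSimpleGroup G]

theorem exists_shape [Fact (Nat.Prime 5)] (hG : ¬ IsMulCommutative G)
    (h21 : Nat.card (Sylow 5 G) = 21) (hP5 : ∀ P : Sylow 5 G, Nat.card (P : Subgroup G) = 5)
    (P : Sylow 5 G) {x : G} (hx : orderOf x = 5) (hPx : (P : Subgroup G) = zpowers x) :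
    ∃ c j : ℕ, c ∣ 12 ∧ c ≠ 6 ∧ (j = 2 ∨ j = 4) ∧ Nat.card G = 105 * c * j ∧
      Nat.card (normalizer ((P : Subgroup G) : Set G)) = 5 * c * j ∧
      Nat.card (centralizer ({x} : Set G)) = 5 * c ∧
      ∃ π : normalizer ((P : Subgroup G) : Set G) →* alternatingGroup (Fin 4),
        Nat.card (((centralizer ({x} : Set G)).subgroupOf
          (normalizer ((P : Subgroup G) : Set G))).map π) = c ∧
        ∀ h : normalizer ((P : Subgroup G) : Set G),
          (h : G) * x = x * h → π h = 1 → (h : G) ∈ zpowers x := by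
  set N := normalizer ((P : Subgroup G) : Set G)
  set C := centralizer ({x} : Set G)
  obtain ⟨k, hk, π, hπa, hπx, hπ1⟩ := exists_normalizer_hom hG (by norm_num) hx hP5 P hPx
  obtain rfl : k = 4 := by omega
  obtain ⟨j, hj1, hj4, hCj, -, hle⟩ := exists_card_centralizer_mul hG hx P hPx
  let π' : N →* alternatingGroup (Fin 4) :=
    π.codRestrict _ fun h => hπa h (Or.inl (by decide))
  have hker : ∀ h : N, (h : G) * x = x * h → π' h = 1 → (h : G) ∈ zpowers x := fun h hc h1 =>
    hπ1 h hc (congrArg Subtype.val h1)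
  let f : C →* alternatingGroup (Fin 4) := π'.comp (inclusion hle)
  have hfker : f.ker = (zpowers x).subgroupOf C := by
    ext h
    rw [MonoidHom.mem_ker, mem_subgroupOf]
    constructor
    · exact hker (inclusion hle h) (mem_centralizer_singleton_iff.mp h.2)
    · intro h1
      obtain ⟨i, hi⟩ := mem_zpowers_iff.mp h1
      have hx1 : f ⟨x, mem_centralizer_self x⟩ = 1 := Subtype.ext (hπx _ rfl)
      rw [show h = ⟨x, mem_centralizer_self x⟩ ^ i from Subtype.ext (by simpa using hi.symm),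
        map_zpow, hx1, one_zpow]
  have hrange : f.range = (C.subgroupOf N).map π' := by
    ext t
    simp only [MonoidHom.mem_range, mem_map, mem_subgroupOf]
    constructor
    · rintro ⟨h, rfl⟩; exact ⟨inclusion hle h, h.2, rfl⟩
    · rintro ⟨h, hh, rfl⟩; exact ⟨⟨h, hh⟩, rfl⟩
  have hC : Nat.card C = 5 * Nat.card f.range := by
    have h := f.ker.card_mul_index
    rw [Subgroup.index_ker, hfker,
      Nat.card_congr (subgroupOfEquivOfLe (zpowers_le_centralizer x)).toEquiv, Nat.card_zpowers,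
      hx] at h
    exact h.symm
  have hj : j = 2 ∨ j = 4 := by
    have := Nat.le_of_dvd (by norm_num) hj4
    interval_cases j
    · exact Or.inl rfl
    · norm_num at hj4
    · exact Or.inr rfl
  refine ⟨Nat.card f.range, j, ?_, card_ne_six_alt_four _, hj, ?_, by rw [← hCj, hC], hC, π',
    by rw [hrange], hker⟩
  · exact (card_subgroup_dvd_card _).trans (dvd_of_eq (by rw [card_alternatingGroup_fin]; rfl))
  · rw [← card_normalizer_mul_card_sylow P, h21, ← hCj, hC]
    ring

/-- With `4 ∣ c`, a Sylow 2-subgroup `T ≤ N(P)` is abelian, contains a four-group of `C(x)`, and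
its squares are `1` and `u ^ 2`, with `u ^ 2 ≠ 1` if `j = 4`. -/
theorem sylow_two_shape [Fact (Nat.Prime 5)] [Fact (Nat.Prime 2)] (hG : ¬ IsMulCommutative G)
    (P : Sylow 5 G) {x : G} (hx : orderOf x = 5) (hPx : (P : Subgroup G) = zpowers x) {c j : ℕ}
    (hc : c = 4 ∨ c = 12) (hj : j = 2 ∨ j = 4)
    {N : Subgroup G} (hNdef : N = normalizer ((P : Subgroup G) : Set G))
    (hN : Nat.card N = 5 * c * j)
    (hG' : Nat.card G = 105 * c * j)
    (hC : Nat.card (centralizer ({x} : Set G)) = 5 * c)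
    (π : N →* alternatingGroup (Fin 4))
    (hπc : Nat.card (((centralizer ({x} : Set G)).subgroupOf N).map π) = c)
    (hker : ∀ h : N, (h : G) * x = x * h → π h = 1 → (h : G) ∈ zpowers x) :
    ∃ T : Sylow 2 G, Nat.card (T : Subgroup G) = 4 * j ∧ IsMulCommutative (T : Subgroup G) ∧
      (T : Subgroup G) ≤ N ∧
      (∃ u ∈ (T : Subgroup G), (j = 4 → u ^ 2 ≠ 1) ∧
        ∀ t ∈ (T : Subgroup G), t ^ 2 = 1 ∨ t ^ 2 = u ^ 2) ∧
      Nat.card ↥((T : Subgroup G) ⊓ centralizer ({x} : Set G)) = 4 ∧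
      Nat.card π.range = c := by
  obtain ⟨j', -, -, -, -, hle⟩ := exists_card_centralizer_mul hG hx P hPx
  rw [← hNdef] at hle
  set C' : Subgroup N := (centralizer ({x} : Set G)).subgroupOf N with hC'
  let θ : N →* MulAut (P : Subgroup G) :=
    (P : Subgroup G).normalizerMonoidHom.comp (inclusion hNdef.le)
  have hθ : θ.ker = C' := by
    rw [hC', ← centralizer_zpowers, ← hPx]
    ext g
    rw [MonoidHom.mem_ker, MonoidHom.comp_apply, ← MonoidHom.mem_ker,
      (P : Subgroup G).normalizerMonoidHom_ker, mem_subgroupOf, mem_subgroupOf]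
    rfl
  have hC'n : C'.Normal := hθ ▸ θ.normal_ker
  have hcardC' : Nat.card C' = 5 * c := by
    rw [hC', Nat.card_congr (subgroupOfEquivOfLe hle).toEquiv, hC]
  -- the image of `π`
  have himg : Nat.card π.range = c := by
    have h1 : c ∣ Nat.card π.range := hπc ▸ card_dvd_of_le ((map_mono le_top).trans_eq
      (MonoidHom.range_eq_map π).symm)
    have h2 : Nat.card π.range ∣ 12 :=
      (card_subgroup_dvd_card _).trans (dvd_of_eq (by rw [card_alternatingGroup_fin]; rfl))
    have h3 : Nat.card π.range ∣ 5 * c * j := hN ▸ Subgroup.card_range_dvd π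
    have h4 := Nat.le_of_dvd (by norm_num) h2
    rcases hc with rfl | rfl
    · rcases hj with rfl | rfl <;> interval_cases (Nat.card π.range) <;> omega
    · exact Nat.dvd_antisymm h2 h1
  have hcardK : Nat.card π.ker = 5 * j := by
    have h := π.ker.card_mul_index
    rw [Subgroup.index_ker, himg, hN, show 5 * c * j = 5 * j * c by ring] at h
    exact Nat.eq_of_mul_eq_mul_right (by omega) h
  obtain ⟨S⟩ := (inferInstance : Nonempty (Sylow 2 N))
  have hS : Nat.card (S : Subgroup N) = 4 * j := by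
    rcases hc with rfl | rfl <;> rcases hj with rfl | rfl
    · exact card_sylow_subgroup (p := 2) (e := 3) (m := 5) hN (by norm_num) S
    · exact card_sylow_subgroup (p := 2) (e := 4) (m := 5) hN (by norm_num) S
    · exact card_sylow_subgroup (p := 2) (e := 3) (m := 15) hN (by norm_num) S
    · exact card_sylow_subgroup (p := 2) (e := 4) (m := 15) hN (by norm_num) S
  obtain ⟨T, hT⟩ := (S.isPGroup'.map N.subtype).exists_le_sylow
  have hTc : Nat.card (T : Subgroup G) = 4 * j := by
    rcases hc with rfl | rfl <;> rcases hj with rfl | rfl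
    · exact card_sylow_subgroup (p := 2) (e := 3) (m := 105) hG' (by norm_num) T
    · exact card_sylow_subgroup (p := 2) (e := 4) (m := 105) hG' (by norm_num) T
    · exact card_sylow_subgroup (p := 2) (e := 3) (m := 315) hG' (by norm_num) T
    · exact card_sylow_subgroup (p := 2) (e := 4) (m := 315) hG' (by norm_num) T
  have hTS : (S : Subgroup N).map N.subtype = (T : Subgroup G) :=
    eq_of_le_of_card_ge hT (by rw [card_map_of_injective N.subtype_injective, hS, hTc])
  set V := (S : Subgroup N) ⊓ C' with hV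
  set U := (S : Subgroup N) ⊓ π.ker with hU
  have two_part : ∀ (H : Subgroup N) [H.Normal] (e a : ℕ), Nat.card H = 2 ^ e * a → ¬ 2 ∣ a →
      Nat.card ↥((S : Subgroup N) ⊓ H) = 2 ^ e := by
    intro H _ e a hH ha
    obtain ⟨b, hb, hb2⟩ := card_sylow_inf_mul S H
    obtain ⟨i, hi⟩ := IsPGroup.iff_card.mp (S.isPGroup'.to_le (inf_le_left : (S : Subgroup N) ⊓ H ≤ _))
    rw [hi]
    rw [hi, hH] at hb
    rcases Nat.lt_trichotomy i e with hlt | rfl | hgt
    · obtain ⟨t, rfl⟩ := Nat.exists_eq_add_of_lt hlt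
      rw [add_assoc, pow_add, mul_assoc] at hb
      have := Nat.eq_of_mul_eq_mul_left (by positivity) hb
      exact absurd ⟨2 ^ t * a, by rw [← this, pow_succ]; ring⟩ hb2
    · rfl
    · obtain ⟨t, rfl⟩ := Nat.exists_eq_add_of_lt hgt
      rw [add_assoc, pow_add, mul_assoc] at hb
      have := Nat.eq_of_mul_eq_mul_left (by positivity) hb
      exact absurd ⟨2 ^ t * b, by rw [this, pow_succ]; ring⟩ ha
  have hVc : Nat.card V = 4 := by
    rcases hc with rfl | rfl
    · exact two_part C' 2 5 hcardC' (by norm_num)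
    · exact two_part C' 2 15 hcardC' (by norm_num)
  have hUc : Nat.card U = j := by
    rcases hj with rfl | rfl
    · exact two_part π.ker 1 5 hcardK (by norm_num)
    · exact two_part π.ker 2 5 hcardK (by norm_num)
  have htriv : ∀ t : N, t ∈ (S : Subgroup N) → t ∈ C' → π t = 1 → t = 1 := by
    intro t ht htC h1
    have h2 := hker t (mem_centralizer_singleton_iff.mp htC) h1
    apply Subtype.ext
    have h5 : orderOf (t : G) ∣ 5 := hx ▸ Nat.card_zpowers x ▸ orderOf_dvd_natCard _ h2
    have h8 : orderOf (t : G) ∣ 4 * j := hTc ▸ orderOf_dvd_natCard _ (hTS ▸ mem_map_of_mem N.subtype ht)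
    have h3 := Nat.dvd_gcd h5 h8
    rw [show Nat.gcd 5 (4 * j) = 1 by rcases hj with rfl | rfl <;> rfl] at h3
    exact orderOf_eq_one_iff.mp (Nat.dvd_one.mp h3)
  -- squares of `V`
  have hVsq : ∀ v ∈ V, v ^ 2 = 1 := by
    intro v hv
    refine htriv _ (pow_mem hv.1 2) (pow_mem hv.2 2) ?_
    have h4 : v ^ 4 = 1 :=
      orderOf_dvd_iff_pow_eq_one.mp (hVc ▸ orderOf_dvd_natCard V hv)
    apply Subtype.ext
    rw [map_pow]
    exact alt_four_pow_four _ (π v).2 (by
      rw [← SubgroupClass.coe_pow, ← map_pow, h4, map_one]; rfl)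
  have hcomm : ∀ v ∈ V, ∀ u ∈ U, v * u = u * v := by
    intro v hv u hu
    have h1 : v * u * v⁻¹ * u⁻¹ = 1 := by
      refine htriv _ (mul_mem (mul_mem (mul_mem hv.1 hu.1) (inv_mem hv.1)) (inv_mem hu.1)) ?_ ?_
      · simpa [mul_assoc] using mul_mem hv.2 (hC'n.conj_mem _ (inv_mem hv.2) u)
      · have h : π u = 1 := hu.2
        simp [h]
    rwa [mul_inv_eq_one, mul_inv_eq_iff_eq_mul] at h1
  have hVV : ∀ v ∈ V, ∀ w ∈ V, v * w = w * v := by
    intro v hv w hw
    have hinv : ∀ a ∈ V, a⁻¹ = a := fun a ha =>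
      inv_eq_of_mul_eq_one_right (by rw [← sq]; exact hVsq a ha)
    calc v * w = (v * w)⁻¹ := (hinv _ (mul_mem hv hw)).symm
      _ = w⁻¹ * v⁻¹ := mul_inv_rev v w
      _ = w * v := by rw [hinv v hv, hinv w hw]
  -- `U` is cyclic
  have : IsCyclic (P : Subgroup G) := isCyclic_of_prime_card (p := 5) (by
    rw [hPx, Nat.card_zpowers, hx])
  have hAut : IsCyclic (MulAut (P : Subgroup G)) := by
    have hcard : Nat.card (P : Subgroup G) = 5 := by rw [hPx, Nat.card_zpowers, hx]
    have : IsCyclic (ZMod (Nat.card (P : Subgroup G)))ˣ := by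
      rw [hcard]; infer_instance
    let e := IsCyclic.mulAutMulEquiv (P : Subgroup G)
    first
      | exact isCyclic_of_surjective e e.surjective
      | exact isCyclic_of_surjective e.symm e.symm.surjective
  have hUinj : Function.Injective (θ.comp U.subtype) := by
    refine (injective_iff_map_eq_one _).mpr fun u hu => Subtype.ext ?_
    have h1 : (u : N) ∈ C' := hθ ▸ MonoidHom.mem_ker.mpr hu
    exact htriv _ u.2.1 h1 u.2.2
  have hUcyc : IsCyclic U := isCyclic_of_injective _ hUinj
  obtain ⟨⟨g, hg⟩, hgen⟩ := IsCyclic.exists_generator (α := U)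
  have hUpow : ∀ u ∈ U, ∃ i : ℤ, u = g ^ i := fun u hu => by
    obtain ⟨i, hi⟩ := mem_zpowers_iff.mp (hgen ⟨u, hu⟩)
    exact ⟨i, (congrArg Subtype.val hi).symm⟩
  have hgord : orderOf g = j := by
    rw [← hUc, ← orderOf_eq_card_of_forall_mem_zpowers hgen]
    exact (Subgroup.orderOf_mk g hg).symm
  have hg4 : g ^ 4 = 1 := orderOf_dvd_iff_pow_eq_one.mp (by rw [hgord]; rcases hj with rfl | rfl <;> norm_num)
  -- `T = V U`
  have hdec : ∀ t ∈ (S : Subgroup N), ∃ v ∈ V, ∃ u ∈ U, t = v * u := by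
    let F : V × U → (S : Subgroup N) := fun z => ⟨z.1 * z.2, mul_mem z.1.2.1 z.2.2.1⟩
    have hFinj : Function.Injective F := by
      rintro ⟨⟨v, hv⟩, ⟨u, hu⟩⟩ ⟨⟨v', hv'⟩, ⟨u', hu'⟩⟩ he
      have h1 : v * u = v' * u' := congrArg Subtype.val he
      have h2 : v'⁻¹ * v = u' * u⁻¹ := by
        rw [eq_mul_inv_iff_mul_eq, mul_assoc, h1, inv_mul_cancel_left]
      have h3 : v'⁻¹ * v = 1 := htriv _ (mul_mem (inv_mem hv'.1) hv.1)
        (mul_mem (inv_mem hv'.2) hv.2)
        (MonoidHom.mem_ker.mp (h2 ▸ mul_mem hu'.2 (inv_mem hu.2)))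
      obtain rfl := inv_mul_eq_one.mp h3
      obtain rfl := mul_left_cancel h1
      rfl
    have hFbij : Function.Bijective F := (Nat.bijective_iff_injective_and_card F).mpr
      ⟨hFinj, by rw [Nat.card_prod, hVc, hUc, hS]⟩
    intro t ht
    obtain ⟨⟨v, u⟩, hvu⟩ := hFbij.2 ⟨t, ht⟩
    exact ⟨v, v.2, u, u.2, (congrArg Subtype.val hvu).symm⟩
  have hScomm : ∀ a ∈ (S : Subgroup N), ∀ b ∈ (S : Subgroup N), a * b = b * a := by
    intro a ha b hb
    obtain ⟨v, hv, u, hu, rfl⟩ := hdec a ha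
    obtain ⟨w, hw, r, hr, rfl⟩ := hdec b hb
    obtain ⟨i, rfl⟩ := hUpow u hu
    obtain ⟨k, rfl⟩ := hUpow r hr
    have c1 : Commute v w := hVV v hv w hw
    have c2 : Commute v (g ^ k) := hcomm v hv _ hr
    have c3 : Commute (g ^ i) w := (hcomm w hw _ hu : Commute w (g ^ i)).symm
    exact ((c1.mul_right c2).mul_left (c3.mul_right (Commute.zpow_zpow (Commute.refl g) i k))).eq
  refine ⟨T, hTc, ⟨⟨fun a b => ?_⟩⟩, hTS ▸ map_subtype_le _, ⟨(g : G), ?_, ?_, ?_⟩, ?_, himg⟩
  · have ha2 : (a : G) ∈ (S : Subgroup N).map N.subtype := by rw [hTS]; exact a.2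
    have hb2 : (b : G) ∈ (S : Subgroup N).map N.subtype := by rw [hTS]; exact b.2
    obtain ⟨a', ha', hae⟩ := ha2
    obtain ⟨b', hb', hbe⟩ := hb2
    apply Subtype.ext
    show (a : G) * b = b * a
    rw [← hae, ← hbe, ← map_mul, ← map_mul, hScomm a' ha' b' hb']
  · rw [← hTS]
    exact ⟨g, hg.1, rfl⟩
  · intro hj4 h1
    have : orderOf g ∣ 2 := orderOf_dvd_of_pow_eq_one (Subtype.ext (by simpa using h1))
    rw [hgord, hj4] at this
    norm_num at this
  · intro t ht
    rw [← hTS] at ht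
    obtain ⟨s, hs, rfl⟩ := ht
    obtain ⟨v, hv, u, hu, rfl⟩ := hdec s hs
    obtain ⟨i, rfl⟩ := hUpow u hu
    have h2 : (v * g ^ i) ^ 2 = (g ^ 2) ^ i := by
      rw [Commute.mul_pow (hcomm v hv _ hu), hVsq v hv, one_mul, ← zpow_natCast,
        ← zpow_natCast g 2, ← zpow_mul, ← zpow_mul, mul_comm]
    rcases Int.even_or_odd' i with ⟨m, rfl | rfl⟩
    · left
      rw [← map_pow, h2, zpow_mul, zpow_ofNat, ← pow_mul, hg4, one_zpow, map_one]
    · right
      rw [← map_pow, h2, zpow_add, zpow_mul, zpow_ofNat, ← pow_mul, hg4, one_zpow, one_mul,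
        zpow_one, map_pow]
      rfl
  · rw [← hTS, ← hVc, ← card_map_of_injective (K := V) N.subtype_injective]
    congr 1
    refine congrArg (fun H : Subgroup G => ↥H) ?_
    rw [hV, map_inf _ _ N.subtype N.subtype_injective, hC', subgroupOf_map_subtype,
      inf_of_le_left hle]

theorem false_of_abelian_fixed [Fact (Nat.Prime 2)] (hG : ¬ IsMulCommutative G) (T : Sylow 2 G)
    (hT : IsMulCommutative (T : Subgroup G)) {z : G} (hzT : z ∈ (T : Subgroup G)) (hz : z ≠ 1)
    (hfix : ∀ n ∈ normalizer ((T : Subgroup G) : Set G), n * z * n⁻¹ = z) : False := by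
  have hperf : commutator G = ⊤ :=
    (inferInstance : (commutator G).Normal).eq_bot_or_eq_top.resolve_left fun h => hG ⟨⟨fun a b => by
      have : ⁅a, b⁆ ∈ commutator G := commutator_mem_commutator (mem_top a) (mem_top b)
      rw [h, mem_bot, commutatorElement_eq_one_iff_commute] at this
      exact this⟩⟩
  have h1 := Cfsg.Agent.Transfer.commutator_inf_eq_commutator_normalizer T
  rw [hperf, top_inf_eq] at h1
  have h2 : z ∈ ⁅(T : Subgroup G), normalizer ((T : Subgroup G) : Set G)⁆ ⊓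
      centralizer (normalizer ((T : Subgroup G) : Set G) : Set G) :=
    ⟨h1 ▸ hzT, mem_centralizer_iff.mpr fun n hn => mul_inv_eq_iff_eq_mul.mp (hfix n hn)⟩
  rw [Cfsg.Agent.Transfer.commutator_normalizer_inf_centralizer T, mem_bot] at h2
  exact hz h2

end Cfsg.Agent.SmallOrders.TwentyOne
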