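-- Twenty-one Sylow 5-subgroups: reduction to simple groups.
--
-- * `isSimpleGroup_of_card_sylow_five`: a minimal group with 21 Sylow 5-subgroups is simple
import Cfsg.Agent.Lib.SylowCount.Basic
import Cfsg.Agent.Lib.Signalizer.PAction

set_option autoImplicit false

namespace Cfsg.Agent.SmallOrders.TwentyOne

open Subgroup Cfsg.Agent.SylowCount Cfsg.Agent.Signalizer

theorem eq_add_one_of_mul_pow_eq {q i j a b : ℕ} (hq : q.Prime) (ha : ¬ q ∣ a) (hb : ¬ q ∣ b)
    (h : q ^ i * a = q ^ (j + 1) * b) : i = j + 1 := by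
  rcases Nat.lt_trichotomy i (j + 1) with hlt | heq | hgt
  · refine absurd ?_ ha
    obtain ⟨t, ht⟩ := Nat.exists_eq_add_of_lt hlt
    rw [ht, add_assoc, pow_add, mul_assoc] at h
    rw [Nat.eq_of_mul_eq_mul_left (pow_pos hq.pos i) h, pow_succ']
    exact (dvd_mul_right _ _).mul_right _
  · exact heq
  · refine absurd ?_ hb
    obtain ⟨t, ht⟩ := Nat.exists_eq_add_of_lt hgt
    rw [ht, show j + 1 + t + 1 = (j + 1) + (t + 1) by omega, pow_add, mul_assoc] at h
    rw [← Nat.eq_of_mul_eq_mul_left (pow_pos hq.pos (j + 1)) h, pow_succ']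
    exact (dvd_mul_right _ _).mul_right _

variable {G : Type*} [Group G] [Finite G]

/-- A `5'`-group normalised by a 5-group has no subgroup of index 21 as fixed points. -/
theorem card_ne_mul_of_action {P K : Subgroup G} [Fact (Nat.Prime 5)] (hP : IsPGroup 5 P)
    (hK : ¬ 5 ∣ Nat.card K) (hPK : P ≤ normalizer (K : Set G)) :
    Nat.card K ≠ 21 * Nat.card ↥(K ⊓ centralizer (P : Set G)) := by
  intro h
  have : Fact (Nat.Prime 3) := ⟨by norm_num⟩
  set C := K ⊓ centralizer (P : Set G) with hC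
  obtain ⟨r⟩ := (inferInstance : Nonempty (Sylow 3 C))
  set R := (r : Subgroup C).map C.subtype with hR
  have hRC : R ≤ C := map_subtype_le _
  have hPR : P ≤ normalizer (R : Set G) := fun a ha =>
    centralizer_le_normalizer _ (mem_centralizer_iff.mpr fun x hx =>
      (mem_centralizer_iff.mp ((hRC hx).2) a ha).symm)
  obtain ⟨S, hS, hPS, hRS⟩ := exists_invariant_sylow_ge (q := 3) hP hK hPK
    (hRC.trans inf_le_left) (r.isPGroup'.map _) hPR
  have hSC : S ⊓ centralizer (P : Set G) = R :=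
    (isSylowIn_of_sylow r).eq_of_le (le_inf hRS (hRC.trans inf_le_right))
      (le_inf (inf_le_left.trans hS.1) inf_le_right) (hS.2.1.to_le inf_le_left)
  obtain ⟨i, hi⟩ := IsPGroup.iff_card.mp hS.2.1
  obtain ⟨j, hj⟩ := IsPGroup.iff_card.mp (r.isPGroup'.map C.subtype)
  have h1 : Nat.card R * R.relIndex C = Nat.card C :=
    ((congrArg (· * _) (Nat.card_congr (subgroupOfEquivOfLe hRC).toEquiv).symm).trans
      (R.subgroupOf C).card_mul_index)
  have h2 : Nat.card S * S.relIndex K = Nat.card K :=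
    ((congrArg (· * _) (Nat.card_congr (subgroupOfEquivOfLe hS.1).toEquiv).symm).trans
      (S.subgroupOf K).card_mul_index)
  rw [hi] at h2
  rw [hR, hj, ← hR] at h1
  have h3 : i = j + 1 := by
    refine eq_add_one_of_mul_pow_eq (q := 3) (a := S.relIndex K) (b := 7 * R.relIndex C)
      Nat.prime_three hS.2.2 ?_ ?_
    · rw [Nat.prime_three.dvd_mul]
      rintro (h7 | h7)
      · norm_num at h7
      · exact (isSylowIn_of_sylow r).2.2 h7
    · rw [h2, h, ← h1, pow_succ]
      ring
  let f : P →* MulAut S := (normalizerMonoidHom S).comp (Subgroup.inclusion hPS)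
  letI : MulAction P S := MulAction.compHom _ f
  have h4 := hP.card_modEq_card_fixedPoints S
  have h5 : Nat.card (MulAction.fixedPoints P S) = Nat.card ↥(S ⊓ centralizer (P : Set G)) := by
    refine Nat.card_congr ⟨fun x => ⟨(x.1 : G), x.1.2, mem_centralizer_iff_conj.mpr fun a ha =>
        congrArg Subtype.val (x.2 ⟨a, ha⟩)⟩,
      fun y => ⟨⟨(y : G), y.2.1⟩, fun a => Subtype.ext (mem_centralizer_iff_conj.mp y.2.2 a a.2)⟩,
      fun x => rfl, fun y => rfl⟩
  rw [h5, hSC, hR, hj, hi, h3, pow_succ] at h4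
  have h6 : 5 ∣ 3 ^ j * 3 - 3 ^ j := (Nat.modEq_iff_dvd' (by omega)).mp h4.symm
  have h7 : 3 ^ j * 3 - 3 ^ j = 2 * 3 ^ j := by omega
  rw [h7, (Fact.out : Nat.Prime 5).dvd_mul] at h6
  rcases h6 with h6 | h6
  · norm_num at h6
  · have := Nat.le_of_dvd (by norm_num) ((Fact.out : Nat.Prime 5).dvd_of_dvd_pow h6)
    omega

/-- A minimal group with 21 Sylow 5-subgroups is simple. -/
theorem isSimpleGroup_of_card_sylow_five [Fact (Nat.Prime 5)]
    (h : Nat.card (Sylow 5 G) = 21)
    (hsub : ∀ H : Subgroup G, H ≠ ⊤ → Nat.card (Sylow 5 H) ≠ 21)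
    (hquo : ∀ (K : Subgroup G) [K.Normal], K ≠ ⊥ → Nat.card (Sylow 5 (G ⧸ K)) ≠ 21) :
    IsSimpleGroup G ∧ ¬ IsMulCommutative G := by
  obtain ⟨P⟩ := (inferInstance : Nonempty (Sylow 5 G))
  have hP : (P : Subgroup G) ≠ ⊤ := by
    intro ht
    have hn : (P : Subgroup G).Normal := by rw [ht]; infer_instance
    have := Sylow.unique_of_normal P hn
    rw [Nat.card_unique] at h
    omega
  have key : ∀ d, d ∣ 21 → d % 5 = 1 → d = 1 ∨ d = 21 := by
    intro d hd h5
    have := Nat.le_of_dvd (by norm_num) hd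
    interval_cases d <;> omega
  have hmod : ∀ (H : Type _) [Group H] [Finite H], Nat.card (Sylow 5 H) % 5 = 1 := fun H _ _ =>
    card_sylow_modEq_one 5 H
  have step1 : ∀ (K : Subgroup G) [K.Normal], K ≠ ⊥ → (P : Subgroup G) ⊔ K = ⊤ := by
    intro K _ hK
    by_contra ht
    have h1 := card_sylow_eq_quotient_mul K P
    rw [h] at h1
    rcases key _ (Dvd.intro _ h1.symm) (hmod _) with h2 | h2
    · rw [h2, one_mul] at h1
      exact hsub _ ht h1.symm
    · exact hquo K hK h2
  refine ⟨?_, fun hc => ?_⟩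
  swap
  · have hn : (P : Subgroup G).Normal := ⟨fun x hx g => by
      rwa [mul_comm' g x, mul_inv_cancel_right]⟩
    have := Sylow.unique_of_normal P hn
    rw [Nat.card_unique] at h
    omega
  have : Nontrivial G := by
    by_contra hn
    have := not_nontrivial_iff_subsingleton.mp hn
    exact hP (Subsingleton.elim _ _)
  refine ⟨fun K hKn => ?_⟩
  by_contra! hK
  obtain ⟨hK0, hK1⟩ := hK
  have hPK := step1 K hK0
  have hrel : (normalizer ((P : Subgroup G) : Set G)).relIndex K = 21 := by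
    rw [← card_sylow_sup_eq K P, hPK, Nat.card_congr (?_ : Sylow 5 (⊤ : Subgroup G) ≃ Sylow 5 G), h]
    refine Equiv.ofBijective (Sylow.mapSurjective (f := (topEquiv (G := G)).toMonoidHom) (topEquiv (G := G)).surjective)
      ⟨fun a b hab => Sylow.ext (Subgroup.map_injective topEquiv.injective
        (congrArg (fun S : Sylow 5 G => (S : Subgroup G)) hab)),
        Sylow.mapSurjective_surjective _ 5⟩
  set P0 := (P : Subgroup G) ⊓ K with hP0
  have hidx : P0.relIndex K = (P : Subgroup G).index := by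
    rw [hP0, inf_relIndex_right, ← relIndex_eq_of_sup K (P : Subgroup G), hPK, relIndex_top_right]
  have hP0syl : IsSylowIn 5 K P0 :=
    ⟨inf_le_right, P.isPGroup'.to_le inf_le_left, hidx ▸ P.not_dvd_index⟩
  obtain ⟨s, hs⟩ := hP0syl.exists_sylow
  have hN0 : normalizer ((P : Subgroup G) : Set G) ⊓ K ≤ normalizer (P0 : Set G) := fun g hg =>
    mem_normalizer_of_conj_mem fun x hx =>
      ⟨(mem_normalizer_iff.mp hg.1 x).mp hx.1, hKn.conj_mem x hx.2 g⟩
  have hK5 : Nat.card (Sylow 5 K) = 1 := by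
    have h1 : Nat.card (Sylow 5 K) = (normalizer (P0 : Set G)).relIndex K := by
      rw [Sylow.card_eq_index_normalizer s, relIndex]
      congr 1
      have e : P0.subgroupOf K = (s : Subgroup K) := by
        rw [← hs, Subgroup.subgroupOf, comap_map_eq_self_of_injective K.subtype_injective]
      rw [subgroupOf_normalizer_eq inf_le_right, e]
      rfl
    have h2 : Nat.card (Sylow 5 K) ∣ 21 := by
      rw [h1, ← hrel, ← inf_relIndex_right (normalizer ((P : Subgroup G) : Set G))]
      exact relIndex_dvd_of_le_left _ hN0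
    exact (key _ h2 (hmod _)).resolve_right (hsub K hK1)
  have hP0n : P0.Normal := by
    have hsn : (s : Subgroup K).Normal :=
      haveI : Subsingleton (Sylow 5 K) := Finite.card_le_one_iff_subsingleton.mp hK5.le
      Sylow.normal_of_subsingleton s
    have hKN : K ≤ normalizer (P0 : Set G) := by
      rw [← hs]
      refine fun g hg => mem_normalizer_of_conj_mem ?_
      rintro _ ⟨x, hx, rfl⟩
      exact ⟨_, hsn.conj_mem x hx ⟨g, hg⟩, rfl⟩
    have hPN : (P : Subgroup G) ≤ normalizer (P0 : Set G) := fun g hg =>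
      mem_normalizer_of_conj_mem fun x hx =>
        ⟨(P : Subgroup G).mul_mem ((P : Subgroup G).mul_mem hg hx.1)
          ((P : Subgroup G).inv_mem hg), hKn.conj_mem x hx.2 g⟩
    exact normalizer_eq_top_iff.mp (top_le_iff.mp (hPK ▸ sup_le hPN hKN))
  have hP0bot : P0 = ⊥ := by
    by_contra hne
    exact hP ((sup_eq_left.mpr inf_le_left).symm.trans (step1 P0 hne))
  have hK5' : ¬ 5 ∣ Nat.card K := by
    have := hidx
    rw [hP0bot, relIndex_bot_left] at this
    exact this ▸ P.not_dvd_index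
  have hNC : normalizer ((P : Subgroup G) : Set G) ⊓ K = K ⊓ centralizer ((P : Subgroup G) : Set G) := by
    refine le_antisymm (fun g hg => ⟨hg.2, mem_centralizer_iff_conj.mpr fun a ha => ?_⟩)
      (fun g hg => ⟨centralizer_le_normalizer _ hg.2, hg.1⟩)
    have : a * g * a⁻¹ * g⁻¹ ∈ P0 :=
      ⟨by
        show a * g * a⁻¹ * g⁻¹ ∈ (P : Subgroup G)
        simpa only [mul_assoc] using (P : Subgroup G).mul_mem ha
          ((mem_normalizer_iff.mp hg.1 _).mp ((P : Subgroup G).inv_mem ha)),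
        K.mul_mem (hKn.conj_mem g hg.2 a) (K.inv_mem hg.2)⟩
    rw [hP0bot, mem_bot] at this
    exact mul_inv_eq_one.mp this
  apply card_ne_mul_of_action P.isPGroup' hK5' (by rw [normalizer_eq_top_iff.mpr hKn]; exact le_top)
  rw [← hNC, ← hrel, ← inf_relIndex_right, mul_comm,
    ← Nat.card_congr (subgroupOfEquivOfLe (inf_le_right : normalizer ((P : Subgroup G) : Set G) ⊓ K ≤ K)).toEquiv]
  exact (card_mul_index _).symm

end Cfsg.Agent.SmallOrders.TwentyOne
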