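-- No group has exactly 21 Sylow 5-subgroups.
--
-- * `false_of_2520`: the order 2520 case
-- * `false_of_prime_five`: the simple groups with Sylow subgroups of order 5
-- * `card_sylow_five_ne`: no finite group has 21 Sylow 5-subgroups
import Cfsg.Agent.Lib.SmallOrders.TwentyOne.Prime
import Cfsg.Agent.Lib.SmallOrders.TwentyOne.Geometry
import Cfsg.Agent.Lib.SmallOrders.TwentyOne.Reduce

set_option autoImplicit false

namespace Cfsg.Agent.SmallOrders.TwentyOne

open Subgroup MulAction

variable {G : Type*} [Group G] [Finite G] [IsSimpleGroup G]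

/-- In a simple group of order 2520 with 21 Sylow 5-subgroups, the seven-elements are
self-centralising. -/
theorem card_centralizer_seven [Fact (Nat.Prime 5)] [Fact (Nat.Prime 7)]
    (hG : ¬ IsMulCommutative G) (hcard : Nat.card G = 2520) (h21 : Nat.card (Sylow 5 G) = 21)
    {y : G} (hy : orderOf y = 7) : Nat.card (centralizer ({y} : Set G)) = 7 := by
  have hP : ∀ P : Sylow 7 G, Nat.card (P : Subgroup G) = 7 := fun P => by
    rw [card_sylow_subgroup (p := 7) (e := 1) (m := 360) (by rw [hcard]; norm_num) (by norm_num) P,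
      pow_one]
  obtain ⟨P, hPy⟩ : ∃ P : Sylow 7 G, (P : Subgroup G) = zpowers y := by
    obtain ⟨Q, hQ⟩ := (IsPGroup.of_card (n := 1) (by rw [Nat.card_zpowers, hy, pow_one] :
      Nat.card (zpowers y) = 7 ^ 1)).exists_le_sylow
    exact ⟨Q, (eq_of_le_of_card_ge hQ (by rw [hP, Nat.card_zpowers, hy])).symm⟩
  have hdm : Nat.card (Sylow 7 G) ∣ 360 := by
    rw [← index_sylow (p := 7) (e := 1) (m := 360) (by rw [hcard]; norm_num) (by norm_num) P]
    exact P.card_dvd_index
  have hmod : Nat.card (Sylow 7 G) % 7 = 1 := card_sylow_modEq_one 7 G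
  have hone := one_lt_card_sylow hG (p := 7) (by rw [hcard]; norm_num)
  have hN := card_normalizer_mul_card_sylow P
  rw [hcard] at hN
  obtain ⟨k, hk⟩ : ∃ k, Nat.card (Sylow 7 G) = k * 7 + 1 :=
    ⟨Nat.card (Sylow 7 G) / 7, by omega⟩
  obtain ⟨c, hc, hck⟩ := exists_card_centralizer_dvd hG (by norm_num) hy hP hk
  obtain ⟨j, hj1, hj6, hCj, -, -⟩ := exists_card_centralizer_mul hG hy P hPy
  rw [hc] at hCj
  rw [← hCj] at hN
  have hd : ∀ d, d ∣ 360 → d % 7 = 1 → d = 1 ∨ d = 8 ∨ d = 15 ∨ d = 36 ∨ d = 120 := by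
    intro d hd h7
    have := Nat.le_of_dvd (by norm_num) hd
    interval_cases d <;> omega
  rcases hd _ hdm hmod with h | h | h | h | h <;> rw [h] at hN
  · omega
  · exfalso
    have h2 := two_mul_card_normalizer_dvd hG (p := 7) (by norm_num) P (hP P) h
    rw [← hCj] at h2
    rw [show 7 * c * j = 315 by omega] at h2
    norm_num at h2
  · exfalso
    obtain rfl : k = 2 := by omega
    rw [card_alternatingGroup_fin, show altCard 2 = 1 from rfl, Nat.dvd_one] at hck
    subst hck
    have := Nat.le_of_dvd (by norm_num) hj6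
    omega
  · exfalso
    obtain rfl : k = 5 := by omega
    have hcj : c * j = 10 := by
      have : 7 * (c * j) * 36 = 2520 := by rw [← hN]; ring
      omega
    have hj : j ∣ 10 := ⟨c, by rw [← hcj]; ring⟩
    have hj2 : j = 2 := by
      have := Nat.le_of_dvd (by norm_num) hj6
      interval_cases j <;> omega
    subst hj2
    obtain ⟨w, hw⟩ := exists_prime_orderOf_dvd_card' 5
      (show 5 ∣ Nat.card (centralizer ({y} : Set G)) by rw [hc]; exact ⟨7, by omega⟩)
    have hw' : orderOf (w : G) = 5 := by rw [Subgroup.orderOf_coe]; exact hw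
    obtain ⟨Q, hQ⟩ : ∃ Q : Sylow 5 G, (Q : Subgroup G) = zpowers (w : G) := by
      obtain ⟨Q, hQ⟩ := (IsPGroup.of_card (n := 1) (by rw [Nat.card_zpowers, hw', pow_one] :
        Nat.card (zpowers (w : G)) = 5 ^ 1)).exists_le_sylow
      exact ⟨Q, (eq_of_le_of_card_ge hQ (by
        rw [card_sylow_subgroup (p := 5) (e := 1) (m := 504) (by rw [hcard]; norm_num)
          (by norm_num) Q, Nat.card_zpowers, hw', pow_one])).symm⟩
    obtain ⟨j', -, -, hCw, -, -⟩ := exists_card_centralizer_mul hG hw' Q hQ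
    have hNQ := card_normalizer_mul_card_sylow Q
    rw [hcard, h21, ← hCw] at hNQ
    have hyw : y ∈ centralizer ({(w : G)} : Set G) :=
      mem_centralizer_singleton_iff.mpr (mem_centralizer_singleton_iff.mp w.2).symm
    have h7 : 7 ∣ Nat.card (centralizer ({(w : G)} : Set G)) := hy ▸ orderOf_dvd_natCard _ hyw
    have : 7 ∣ 120 := by
      refine h7.trans ⟨j', ?_⟩
      omega
    omega
  · have hcj : c * j = 3 := by
      have : 7 * (c * j) * 120 = 2520 := by rw [← hN]; ring
      omega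
    rcases Nat.prime_three.eq_one_or_self_of_dvd c ⟨j, hcj.symm⟩ with rfl | rfl
    · rw [hc]
    · omega

theorem false_of_2520 [Fact (Nat.Prime 5)] [Fact (Nat.Prime 7)] [Fact (Nat.Prime 2)]
    (hG : ¬ IsMulCommutative G) (hcard : Nat.card G = 2520) (h21 : Nat.card (Sylow 5 G) = 21)
    (P : Sylow 5 G) {x : G} (hx : orderOf x = 5) (hPx : (P : Subgroup G) = zpowers x)
    {N : Subgroup G} (hNdef : N = normalizer ((P : Subgroup G) : Set G))
    (hN : Nat.card N = 120) (hC : Nat.card (centralizer ({x} : Set G)) = 60)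
    (π : N →* alternatingGroup (Fin 4))
    (hπc : Nat.card (((centralizer ({x} : Set G)).subgroupOf N).map π) = 12)
    (hker : ∀ h : N, (h : G) * x = x * h → π h = 1 → (h : G) ∈ zpowers x) : False := by
  classical
  obtain ⟨T, hTc, hTab, hTN, ⟨-, -, -, -⟩, hV, himg⟩ := sylow_two_shape hG P hx hPx (c := 12)
    (j := 2) (Or.inr rfl) (Or.inl rfl) hNdef (by rw [hN]) (by rw [hcard]) (by rw [hC]) π hπc hker
  replace hTc : Nat.card (T : Subgroup G) = 8 := hTc
  set M := normalizer ((T : Subgroup G) : Set G) with hM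
  have hTM : (T : Subgroup G) ≤ M := le_normalizer
  have hnofix : ∀ t ∈ (T : Subgroup G), t ≠ 1 → ∃ n ∈ M, n * t * n⁻¹ ≠ t := by
    intro t ht ht1
    by_contra! hall
    exact false_of_abelian_fixed hG T hTab ht ht1 hall
  let X := {t : (T : Subgroup G) // t ≠ 1}
  let act : M → X → X := fun n t =>
    ⟨⟨(n : G) * (t.1 : G) * (n : G)⁻¹, (mem_normalizer_iff.mp n.2 _).mp t.1.2⟩, fun he => t.2
      (Subtype.ext (by simpa using congrArg Subtype.val he))⟩
  letI : MulAction M X :=
    { smul := act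
      one_smul := fun t => Subtype.ext (Subtype.ext (show (1 : G) * _ * 1⁻¹ = _ by group))
      mul_smul := fun a b t => Subtype.ext (Subtype.ext
        (show ((a : G) * b) * _ * ((a : G) * b)⁻¹ = _ * (_ * _ * _) * _ by group)) }
  have : Fintype (T : Subgroup G) := Fintype.ofFinite _
  have : Fintype X := Fintype.ofFinite _
  have hX : Fintype.card X = 7 := by
    rw [Fintype.card_subtype_compl, Fintype.card_subtype_eq, ← Nat.card_eq_fintype_card, hTc]
  have hM7 : 7 ∣ Nat.card M := by
    by_contra h7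
    have hMT : Nat.card M = 8 * ((T : Subgroup G).relIndex M) := by
      rw [relIndex, ← hTc, ← Nat.card_congr (subgroupOfEquivOfLe hTM).toEquiv]
      exact (card_mul_index _).symm
    have hr : (T : Subgroup G).relIndex M ∣ 45 := by
      have h1 : (T : Subgroup G).relIndex M ∣ 7 * 45 :=
        ⟨M.index, by
          rw [relIndex_mul_index hTM]
          exact (index_sylow (p := 2) (e := 3) (m := 315) (by rw [hcard]; norm_num)
            (by norm_num) T).symm⟩
      refine (Nat.Coprime.dvd_mul_left ?_).mp h1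
      rw [Nat.coprime_comm, Nat.Prime.coprime_iff_not_dvd (Fact.out : Nat.Prime 7)]
      exact fun h => h7 (hMT ▸ h.mul_left 8)
    have horb : ∀ t : X, Nat.card (orbit M t) = 3 ∨ Nat.card (orbit M t) = 5 := by
      intro t
      have hle : Nat.card (orbit M t) ≤ 7 := by
        rw [← hX, ← Nat.card_eq_fintype_card]
        exact Nat.card_le_card_of_injective _ Subtype.val_injective
      have hne : Nat.card (orbit M t) ≠ 1 := by
        intro h1
        obtain ⟨n, hn, hne⟩ := hnofix t.1 t.1.2 fun he => t.2 (Subtype.ext he)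
        have := (Nat.card_eq_one_iff_unique.mp h1).1
        have h2 : (⟨n, hn⟩ : M) • t = t := congrArg Subtype.val
          (Subsingleton.elim (⟨_, mem_orbit t ⟨n, hn⟩⟩ : orbit M t) ⟨t, mem_orbit_self t⟩)
        exact hne (congrArg (fun z : X => (z.1 : G)) h2)
      have hdvd : Nat.card (orbit M t) ∣ 45 := by
        refine dvd_trans ?_ hr
        rw [Nat.card_coe_set_eq, ← index_stabilizer]
        refine index_dvd_of_le ?_
        intro a ha
        rw [mem_stabilizer_iff]
        refine Subtype.ext (Subtype.ext (show (a : G) * _ * (a : G)⁻¹ = _ from ?_))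
        rw [show (a : G) * (t.1 : G) = (t.1 : G) * a from
          congrArg Subtype.val (mul_comm' (⟨(a : G), ha⟩ : (T : Subgroup G)) t.1),
          mul_inv_cancel_right]
      have hpos : 0 < Nat.card (orbit M t) := by
        have : Nonempty (orbit M t) := ⟨⟨t, mem_orbit_self t⟩⟩
        exact Nat.card_pos
      interval_cases (Nat.card (orbit M t)) <;> omega
    have hdis : ∀ s t : X, t ∉ orbit M s → Disjoint (orbit M s) (orbit M t) := by
      intro s t hts
      rw [Set.disjoint_left]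
      intro a ha hat
      apply hts
      rw [← orbit_eq_iff] at ha hat
      rw [← ha, hat]
      exact mem_orbit_self t
    have hout : ∀ A : Set X, A.ncard < 7 → ∃ t, t ∉ A := by
      intro A hA
      by_contra! hall
      rw [Set.eq_univ_of_forall hall, Set.ncard_univ, Nat.card_eq_fintype_card, hX] at hA
      omega
    obtain ⟨t₁⟩ : Nonempty X := Fintype.card_pos_iff.mp (by omega)
    obtain ⟨t₂, h2⟩ := hout (orbit M t₁) (by
      rcases horb t₁ with e | e <;> rw [Nat.card_coe_set_eq] at e <;> omega)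
    have d12 := hdis t₁ t₂ h2
    have h12 := Set.ncard_union_eq d12
    have hle12 := Set.ncard_le_card (orbit M t₁ ∪ orbit M t₂)
    rw [Nat.card_eq_fintype_card, hX] at hle12
    obtain ⟨t₃, h3⟩ := hout (orbit M t₁ ∪ orbit M t₂) (by
      have e1 := horb t₁; have e2 := horb t₂
      rw [Nat.card_coe_set_eq] at e1 e2
      omega)
    rw [Set.mem_union, not_or] at h3
    have d3 : Disjoint (orbit M t₁ ∪ orbit M t₂) (orbit M t₃) :=
      Set.disjoint_union_left.mpr ⟨hdis t₁ t₃ h3.1, hdis t₂ t₃ h3.2⟩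
    have h123 := Set.ncard_union_eq d3
    have hle123 := Set.ncard_le_card (orbit M t₁ ∪ orbit M t₂ ∪ orbit M t₃)
    rw [Nat.card_eq_fintype_card, hX] at hle123
    have e1 := horb t₁; have e2 := horb t₂; have e3 := horb t₃
    rw [Nat.card_coe_set_eq] at e1 e2 e3
    omega
  obtain ⟨g, hg⟩ := exists_prime_orderOf_dvd_card' 7 hM7
  have hg' : orderOf (g : G) = 7 := by rw [Subgroup.orderOf_coe]; exact hg
  have h7fix : ∀ i : ℕ, ¬ 7 ∣ i → ∀ t : X, g ^ i • t ≠ t := by
    intro i hi t he
    have hoi : orderOf ((g : G) ^ i) = 7 := by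
      rw [Nat.Coprime.orderOf_pow (y := (g : G)) (by
        rw [hg']; exact (Fact.out : Nat.Prime 7).coprime_iff_not_dvd.mpr hi), hg']
    have h1 : (g : G) ^ i * (t.1 : G) * ((g : G) ^ i)⁻¹ = t.1 := by
      have := congrArg (fun z : X => (z.1 : G)) he
      rwa [show ((g ^ i • t : X).1 : G) = ((g ^ i : M) : G) * (t.1 : G) * ((g ^ i : M) : G)⁻¹ from rfl,
        SubgroupClass.coe_pow] at this
    have h2 : (t.1 : G) * (g : G) ^ i = (g : G) ^ i * t.1 := (mul_inv_eq_iff_eq_mul.mp h1).symm
    have h3 : orderOf (t.1 : G) ∣ 7 :=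
      orderOf_dvd_of_centralizer (card_centralizer_seven hG hcard h21 hoi) h2
    have h4 : orderOf (t.1 : G) ∣ 8 := hTc ▸ orderOf_dvd_natCard _ t.1.2
    have h5 := Nat.dvd_gcd h3 h4
    rw [show Nat.gcd 7 8 = 1 from rfl, Nat.dvd_one, orderOf_eq_one_iff] at h5
    exact t.2 (Subtype.ext h5)
  have htrans : ∀ s t : X, ∃ i : ℕ, g ^ i • s = t := by
    intro s t
    have hinj : Function.Injective (fun i : Fin 7 => g ^ (i : ℕ) • s) := by
      intro a b hab
      by_contra hne
      wlog hlt : (a : ℕ) < b generalizing a b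
      · exact this hab.symm (Ne.symm hne) (lt_of_le_of_ne (Nat.le_of_not_lt hlt)
          (fun e => hne (Fin.ext e).symm))
      refine h7fix ((b : ℕ) - a) (fun hd => ?_) (g ^ (a : ℕ) • s) ?_
      · have := Nat.le_of_dvd (by omega) hd
        omega
      · rw [smul_smul, ← pow_add, Nat.sub_add_cancel hlt.le]
        exact hab.symm
    obtain ⟨i, hi⟩ := ((Fintype.bijective_iff_injective_and_card _).mpr
      ⟨hinj, by rw [Fintype.card_fin, hX]⟩).2 t
    exact ⟨i, hi⟩
  -- the four-group `T ∩ C(x)`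
  have hVcard := hV
  set V := (T : Subgroup G) ⊓ centralizer ({x} : Set G) with hVdef
  obtain ⟨v₁, v₂, hv₁, hv₂, hne, hv₁1, hv₂1⟩ : ∃ v₁ v₂ : G, v₁ ∈ V ∧ v₂ ∈ V ∧ v₁ ≠ v₂ ∧
      v₁ ≠ 1 ∧ v₂ ≠ 1 := by
    have : Fintype V := Fintype.ofFinite _
    rw [Nat.card_eq_fintype_card] at hVcard
    have h3 : 2 < (Finset.univ : Finset V).card := by rw [Finset.card_univ]; omega
    have h4 : 1 < ((Finset.univ : Finset V).erase 1).card := by
      rw [Finset.card_erase_of_mem (Finset.mem_univ _)]; omega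
    obtain ⟨a, ha, b, hb, hab⟩ := Finset.one_lt_card.mp h4
    exact ⟨a, b, a.2, b.2, fun e => hab (Subtype.ext e),
      fun e => (Finset.mem_erase.mp ha).1 (Subtype.ext e),
      fun e => (Finset.mem_erase.mp hb).1 (Subtype.ext e)⟩
  -- `C(v) ≤ N` for these
  have hCv : centralizer ({v₂} : Set G) ≤ N := by
    set D := centralizer ({v₂} : Set G) with hD
    have hTD : (T : Subgroup G) ≤ D := fun t ht => mem_centralizer_singleton_iff.mpr
      (congrArg Subtype.val (mul_comm' (⟨t, ht⟩ : (T : Subgroup G)) ⟨v₂, hv₂.1⟩))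
    have hxD : x ∈ D := mem_centralizer_singleton_iff.mpr
      (mem_centralizer_singleton_iff.mp hv₂.2).symm
    have h40 : 40 ∣ Nat.card ↥(D ⊓ N) := by
      have h8 : 8 ∣ Nat.card ↥(D ⊓ N) := hTc ▸ card_dvd_of_le (le_inf hTD hTN)
      have hxN : x ∈ N := hNdef ▸ le_normalizer (hPx ▸ mem_zpowers x)
      have h5 : 5 ∣ Nat.card ↥(D ⊓ N) := hx ▸ orderOf_dvd_natCard _ (mem_inf.mpr ⟨hxD, hxN⟩)
      exact Nat.Coprime.mul_dvd_of_dvd_of_dvd (by norm_num : Nat.Coprime 8 5) h8 h5
    have hne120 : Nat.card ↥(D ⊓ N) ≠ 120 := by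
      intro h
      have heq : D ⊓ N = N := eq_of_le_of_card_ge inf_le_right (by rw [h, hN])
      have hv₂N : v₂ ∈ N := hTN hv₂.1
      have hπ1 : π ⟨v₂, hv₂N⟩ = 1 := by
        refine alt_four_center _ fun τ => ?_
        have : π.range = ⊤ := eq_top_of_card_eq _ (by
          rw [himg, card_alternatingGroup_fin]; rfl)
        obtain ⟨n, rfl⟩ := MonoidHom.mem_range.mp (this ▸ mem_top τ)
        rw [← map_mul, ← map_mul]
        congr 1
        apply Subtype.ext
        have hn : (n : G) ∈ D ⊓ N := heq.symm ▸ n.2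
        exact mem_centralizer_singleton_iff.mp hn.1
      have h1 := hker ⟨v₂, hv₂N⟩ (mem_centralizer_singleton_iff.mp hv₂.2) hπ1
      have h5 : orderOf v₂ ∣ 5 := hx ▸ Nat.card_zpowers x ▸ orderOf_dvd_natCard _ h1
      have h8 : orderOf v₂ ∣ 8 := hTc ▸ orderOf_dvd_natCard _ hv₂.1
      have h9 := Nat.dvd_gcd h5 h8
      rw [show Nat.gcd 5 8 = 1 from rfl, Nat.dvd_one, orderOf_eq_one_iff] at h9
      exact hv₂1 h9
    have hDN : Nat.card ↥(D ⊓ N) = 40 := by
      have h := hN ▸ card_dvd_of_le (inf_le_right : D ⊓ N ≤ N)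
      have := Nat.le_of_dvd (by norm_num) h
      obtain ⟨t, ht⟩ := h40
      rw [ht] at h this hne120 ⊢
      have : t ≤ 3 := by omega
      interval_cases t <;> omega
    have h7 : ¬ 7 ∣ Nat.card D := by
      intro h
      obtain ⟨y, hy⟩ := exists_prime_orderOf_dvd_card' 7 h
      have hy' : orderOf (y : G) = 7 := by rw [Subgroup.orderOf_coe]; exact hy
      have h3 : orderOf v₂ ∣ 7 := orderOf_dvd_of_centralizer
        (card_centralizer_seven hG hcard h21 hy') (mem_centralizer_singleton_iff.mp y.2).symm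
      have h4 : orderOf v₂ ∣ 8 := hTc ▸ orderOf_dvd_natCard _ hv₂.1
      have h9 := Nat.dvd_gcd h3 h4
      rw [show Nat.gcd 7 8 = 1 from rfl, Nat.dvd_one, orderOf_eq_one_iff] at h9
      exact hv₂1 h9
    have hrel : N.relIndex D * 40 = Nat.card D := by
      rw [← hDN, ← inf_relIndex_right, inf_comm, relIndex, mul_comm,
        ← Nat.card_congr (subgroupOfEquivOfLe (inf_le_left : D ⊓ N ≤ D)).toEquiv]
      exact card_mul_index _
    have hPD : (P : Subgroup G) ≤ D := by rw [hPx, zpowers_le]; exact hxD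
    have hn5 : Nat.card (Sylow 5 D) = N.relIndex D := by
      rw [hNdef]; exact Cfsg.Agent.SylowCount.card_sylow_eq_relIndex P D hPD
    have hmod : Nat.card (Sylow 5 D) % 5 = 1 := card_sylow_modEq_one 5 D
    rw [hn5] at hmod
    have hdvd : N.relIndex D ∣ 9 := by
      have h63 : 40 * N.relIndex D ∣ 40 * (7 * 9) := by
        rw [mul_comm, hrel]
        exact (card_subgroup_dvd_card D).trans (dvd_of_eq (by rw [hcard]))
      refine (Nat.Coprime.dvd_mul_left ?_).mp (Nat.dvd_of_mul_dvd_mul_left (by norm_num) h63)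
      rw [Nat.coprime_comm, Nat.Prime.coprime_iff_not_dvd (Fact.out : Nat.Prime 7)]
      exact fun h => h7 (hrel ▸ h.mul_right 40)
    have hone : N.relIndex D = 1 := by
      have := Nat.le_of_dvd (by norm_num) hdvd
      interval_cases (N.relIndex D) <;> omega
    exact relIndex_eq_one.mp hone
  -- move `v₁` to `v₂` by a power of `g`
  let s : X := ⟨⟨v₁, hv₁.1⟩, fun e => hv₁1 (congrArg Subtype.val e)⟩
  let t : X := ⟨⟨v₂, hv₂.1⟩, fun e => hv₂1 (congrArg Subtype.val e)⟩
  obtain ⟨i, hi⟩ := htrans s t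
  have hconj : (g : G) ^ i * v₁ * ((g : G) ^ i)⁻¹ = v₂ := by
    have := congrArg (fun z : X => (z.1 : G)) hi
    rwa [show ((g ^ i • s : X).1 : G) = ((g ^ i : M) : G) * v₁ * ((g ^ i : M) : G)⁻¹ from rfl,
      SubgroupClass.coe_pow] at this
  have hgi : (g : G) ^ i ∈ N := by
    have hPv : ∀ v ∈ V, ∀ a ∈ (P : Subgroup G), a * v = v * a := by
      intro v hv a ha
      rw [hPx] at ha
      obtain ⟨n, rfl⟩ := mem_zpowers_iff.mp ha
      exact ((show Commute v x from mem_centralizer_singleton_iff.mp hv.2).zpow_right n).symm.eq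
    have hle : (((g : G) ^ i • P : Sylow 5 G) : Subgroup G) ≤ N := by
      intro a ha
      apply hCv
      rw [Sylow.coe_subgroup_smul, Subgroup.mem_pointwise_smul_iff_inv_smul_mem, ← map_inv,
        MulAut.smul_def, MulAut.conj_apply, inv_inv] at ha
      rw [mem_centralizer_singleton_iff, ← hconj]
      have := hPv v₁ hv₁ _ ha
      calc a * ((g : G) ^ i * v₁ * ((g : G) ^ i)⁻¹)
          = (g : G) ^ i * ((((g : G) ^ i)⁻¹ * a * (g : G) ^ i) * v₁) * ((g : G) ^ i)⁻¹ := by group
        _ = (g : G) ^ i * (v₁ * (((g : G) ^ i)⁻¹ * a * (g : G) ^ i)) * ((g : G) ^ i)⁻¹ := by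
          rw [this]
        _ = _ := by group
    have heq := Cfsg.Agent.SylowCount.sylow_le_normalizer_eq (P := P) (hle.trans hNdef.le)
    rw [hNdef]
    exact Sylow.smul_eq_iff_mem_normalizer.mp heq
  have h1 : orderOf ((g : G) ^ i) ∣ 120 := hN ▸ orderOf_dvd_natCard _ hgi
  have h2 : orderOf ((g : G) ^ i) ∣ 7 := hg' ▸ orderOf_pow_dvd i
  have h3 := Nat.dvd_gcd h1 h2
  rw [show Nat.gcd 120 7 = 1 from rfl, Nat.dvd_one, orderOf_eq_one_iff] at h3
  rw [h3] at hconj
  exact hne (by simpa using hconj)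

theorem false_of_prime_five [Fact (Nat.Prime 5)] (hG : ¬ IsMulCommutative G)
    (h21 : Nat.card (Sylow 5 G) = 21) (hP5 : ∀ P : Sylow 5 G, Nat.card (P : Subgroup G) = 5) :
    False := by
  have : Fact (Nat.Prime 2) := ⟨Nat.prime_two⟩
  have : Fact (Nat.Prime 7) := ⟨by norm_num⟩
  obtain ⟨P⟩ := (inferInstance : Nonempty (Sylow 5 G))
  have : IsCyclic (P : Subgroup G) := isCyclic_of_prime_card (hP5 P)
  obtain ⟨x, hxP⟩ := (Subgroup.isCyclic_iff_exists_zpowers_eq_top (P : Subgroup G)).mp inferInstance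
  have hx : orderOf x = 5 := by rw [← Nat.card_zpowers, hxP, hP5]
  obtain ⟨c, j, hc12, hc6, hj, hcard, hN, hC, π, hπc, hker⟩ :=
    exists_shape hG h21 hP5 P hx hxP.symm
  have four : c = 4 ∨ c = 12 → j = 4 → False := by
    intro hc hj4
    obtain ⟨T, -, hTab, -, ⟨u, huT, hu1, hsq⟩, -, -⟩ :=
      sylow_two_shape hG P hx hxP.symm hc hj rfl hN hcard hC π hπc hker
    exact false_of_abelian_fixed hG T hTab (pow_mem huT 2) (hu1 hj4) fun n hn => by
      have h1 : n * u * n⁻¹ ∈ (T : Subgroup G) := (mem_normalizer_iff.mp hn u).mp huT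
      rcases hsq _ h1 with h2 | h2 <;> rw [conj_pow] at h2
      · exact absurd (by simpa using h2) (hu1 hj4)
      · exact h2
  have hd : c = 1 ∨ c = 2 ∨ c = 3 ∨ c = 4 ∨ c = 12 := by
    have := Nat.le_of_dvd (by norm_num) hc12
    interval_cases c <;> omega
  have h210 : Nat.card G ≠ 210 := card_ne_of_critBool hG 2 1 (by decide +kernel)
  have h420 : Nat.card G ≠ 420 := card_ne_of_critBool2 hG 7 1 (by decide +kernel)
  have h630 : Nat.card G ≠ 630 := card_ne_of_critBool hG 2 1 (by decide +kernel)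
  have h840 : Nat.card G ≠ 840 := card_ne_of_critBool2 hG 7 1 (by decide +kernel)
  have h1260 : Nat.card G ≠ 1260 := card_ne_of_critBool2 hG 7 1 (by decide +kernel)
  rcases hd with rfl | rfl | rfl | rfl | rfl <;> rcases hj with rfl | rfl
  all_goals first
    | omega
    | exact four (by omega) rfl
    | exact false_of_2520 hG hcard h21 P hx hxP.symm rfl hN hC π hπc hker

end Cfsg.Agent.SmallOrders.TwentyOne

namespace Cfsg.Agent.SmallOrders.TwentyOne

theorem card_sylow_five_ne (n : ℕ) : ∀ (H : Type*) [Group H] [Finite H], Nat.card H = n →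
    Nat.card (Sylow 5 H) ≠ 21 := by
  induction n using Nat.strong_induction_on with
  | h n ih =>
    intro H _ _ hn h21
    have : Fact (Nat.Prime 5) := ⟨by norm_num⟩
    obtain ⟨hs, hH⟩ := isSimpleGroup_of_card_sylow_five h21
      (fun K hK => ih (Nat.card K) (hn ▸ lt_of_le_of_ne (Subgroup.card_le_card_group K)
        fun he => hK (K.eq_top_of_card_eq he)) K rfl)
      (fun K _ hK => ih (Nat.card (H ⧸ K)) (hn ▸ by
        rw [show Nat.card (H ⧸ K) = K.index from rfl, ← K.card_mul_index]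
        exact lt_mul_of_one_lt_left (Nat.pos_of_ne_zero Subgroup.index_ne_zero_of_finite)
          ((K.one_lt_card_iff_ne_bot).mpr hK)) (H ⧸ K) rfl)
    exact false_of_prime_five hH h21 (card_sylow_five_of_simple hH h21)

end Cfsg.Agent.SmallOrders.TwentyOne
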